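import Cfsg.Agent.H7.Pres
import Cfsg.Prelude.Def_Spor_ON

set_option autoImplicit false
set_option linter.unusedVariables false
set_option maxRecDepth 100000
set_option Elab.async false

namespace CfsgH7.ON

open Cfsg

def code : Spor.ON.Gen × Bool → ℕ
  | (.c, _) => 0
  | (.d, _) => 1
  | (.a, _) => 2
  | (.f, _) => 3
  | (.e, _) => 4
  | (.b, _) => 5
  | (.g, true) => 6
  | (.g, false) => 7

def A : Alph Spor.ON.Gen Spor.ON.edges where
  lt := [(.c, true), (.d, true), (.a, true), (.f, true), (.e, true), (.b, true), (.g, true), (.g, false)]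
  code := code
  univ := [.c, .d, .a, .f, .e, .b, .g]
  nodes := [.c, .d, .a, .f, .e, .b]
  mem_univ := fun a => by cases a <;> decide
  nodes_iff := by decide +kernel
  code_lt := by decide +kernel

def R1 : List ℕ := [0x0, 0x2]
theorem r1 : ∀ r ∈ R1, ev8 (A.gen Spor.ON.extra) r = 1 := A.rels _ (by decide +kernel)

def R2 : List ℕ := [0x0, 0x2, 0x111102, 0x101010101010101010101010101010110]
theorem r2 : ∀ r ∈ R2, ev8 (A.gen Spor.ON.extra) r = 1 := A.rels _ (by decide +kernel)

def R4 : List ℕ := [0x0, 0x2, 0x111102, 0x222202, 0x333302, 0x2020202004, 0x2121212104, 0x2323232304, 0x101010101010101010101010101010110, 0x303030304, 0x1313131304, 0x231010101023101010100a, 0x10101013201010101320a]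
theorem r4 : ∀ r ∈ R4, ev8 (A.gen Spor.ON.extra) r = 1 := A.rels _ (by decide +kernel)

def R5 : List ℕ := [0x0, 0x2, 0x111102, 0x222202, 0x333302, 0x444402, 0x2020202004, 0x2121212104, 0x2424242404, 0x2323232304, 0x101010101010101010101010101010110, 0x404040404, 0x303030304, 0x14141414141406, 0x1313131304, 0x43434343434306, 0x231010101023101010100a, 0x10101013201010101320a]
theorem r5 : ∀ r ∈ R5, ev8 (A.gen Spor.ON.extra) r = 1 := A.rels _ (by decide +kernel)

def R6 : List ℕ := [0x0, 0x2, 0x111102, 0x222202, 0x333302, 0x444402, 0x555502, 0x25252525252506, 0x2020202004, 0x2121212104, 0x2424242404, 0x2323232304, 0x50505050505006, 0x5151515104, 0x5454545404, 0x5353535304, 0x101010101010101010101010101010110, 0x404040404, 0x303030304, 0x14141414141406, 0x1313131304, 0x43434343434306, 0x231010101023101010100a, 0x10101013201010101320a]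
theorem r6 : ∀ r ∈ R6, ev8 (A.gen Spor.ON.extra) r = 1 := A.rels _ (by decide +kernel)

def R8 : List ℕ := [0x0, 0x2, 0x111102, 0x222202, 0x333302, 0x444402, 0x555502, 0x767602, 0x676702, 0x25252525252506, 0x2020202004, 0x2121212104, 0x2424242404, 0x2323232304, 0x50505050505006, 0x5151515104, 0x5454545404, 0x5353535304, 0x101010101010101010101010101010110, 0x404040404, 0x303030304, 0x14141414141406, 0x1313131304, 0x43434343434306, 0x2377237704, 0x6632663204, 0x231010101023101010100a, 0x10101013201010101320a, 0x71710161607171016160a, 0x170701060617070106060a, 0x501650165016501650165016501650165016501614, 0x710571057105710571057105710571057105710514, 0x65060565060650605650600b, 0x7057507057070575070570b, 0x64161464161641614641610b, 0x17147417147171474171470b]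
theorem r8 : ∀ r ∈ R8, ev8 (A.gen Spor.ON.extra) r = 1 := A.rels _ (by decide +kernel)

end CfsgH7.ON
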