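import Cfsg.Agent.H7.ON.PT

set_option autoImplicit false
set_option linter.unusedVariables false
set_option maxRecDepth 100000
set_option Elab.async false

namespace CfsgH7.ON

open Cfsg

theorem c1_0 : blk f1 122760 0 156 = true := by decide +kernel
theorem c1_156 : blk f1 122760 156 156 = true := by decide +kernel
theorem c1_312 : blk f1 122760 312 156 = true := by decide +kernel
theorem c1_468 : blk f1 122760 468 156 = true := by decide +kernel
theorem c1_624 : blk f1 122760 624 156 = true := by decide +kernel
theorem c1_780 : blk f1 122760 780 156 = true := by decide +kernel
theorem c1_936 : blk f1 122760 936 156 = true := by decide +kernel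
theorem c1_1092 : blk f1 122760 1092 156 = true := by decide +kernel
theorem c1_1248 : blk f1 122760 1248 156 = true := by decide +kernel
theorem c1_1404 : blk f1 122760 1404 156 = true := by decide +kernel
theorem c1_1560 : blk f1 122760 1560 156 = true := by decide +kernel
theorem c1_1716 : blk f1 122760 1716 156 = true := by decide +kernel
theorem c1_1872 : blk f1 122760 1872 47 = true := by decide +kernel
theorem c2_0 : blk f2 122760 0 45 = true := by decide +kernel
theorem c2_45 : blk f2 122760 45 45 = true := by decide +kernel

end CfsgH7.ON
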