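import Cfsg.Agent.H7.ON.PT

set_option autoImplicit false
set_option linter.unusedVariables false
set_option maxRecDepth 100000
set_option Elab.async false

namespace CfsgH7.ON

open Cfsg

theorem c2_90 : blk f2 122760 90 45 = true := by decide +kernel
theorem c2_135 : blk f2 122760 135 45 = true := by decide +kernel
theorem c2_180 : blk f2 122760 180 45 = true := by decide +kernel
theorem c2_225 : blk f2 122760 225 45 = true := by decide +kernel
theorem c2_270 : blk f2 122760 270 45 = true := by decide +kernel
theorem c2_315 : blk f2 122760 315 45 = true := by decide +kernel
theorem c2_360 : blk f2 122760 360 45 = true := by decide +kernel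
theorem c2_405 : blk f2 122760 405 45 = true := by decide +kernel
theorem c2_450 : blk f2 122760 450 45 = true := by decide +kernel
theorem c2_495 : blk f2 122760 495 45 = true := by decide +kernel
theorem c2_540 : blk f2 122760 540 45 = true := by decide +kernel
theorem c2_585 : blk f2 122760 585 45 = true := by decide +kernel
theorem c2_630 : blk f2 122760 630 45 = true := by decide +kernel
theorem c2_675 : blk f2 122760 675 45 = true := by decide +kernel

end CfsgH7.ON
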