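import Cfsg.Agent.H7.ON.PT

set_option autoImplicit false
set_option linter.unusedVariables false
set_option maxRecDepth 100000
set_option Elab.async false

namespace CfsgH7.ON

open Cfsg

theorem c2_720 : blk f2 122760 720 45 = true := by decide +kernel
theorem c2_765 : blk f2 122760 765 45 = true := by decide +kernel
theorem c2_810 : blk f2 122760 810 45 = true := by decide +kernel
theorem c2_855 : blk f2 122760 855 45 = true := by decide +kernel
theorem c2_900 : blk f2 122760 900 45 = true := by decide +kernel
theorem c2_945 : blk f2 122760 945 45 = true := by decide +kernel
theorem c2_990 : blk f2 122760 990 45 = true := by decide +kernel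
theorem c2_1035 : blk f2 122760 1035 45 = true := by decide +kernel
theorem c2_1080 : blk f2 122760 1080 45 = true := by decide +kernel
theorem c2_1125 : blk f2 122760 1125 45 = true := by decide +kernel
theorem c2_1170 : blk f2 122760 1170 45 = true := by decide +kernel
theorem c2_1215 : blk f2 122760 1215 45 = true := by decide +kernel
theorem c2_1260 : blk f2 122760 1260 45 = true := by decide +kernel
theorem c2_1305 : blk f2 122760 1305 45 = true := by decide +kernel

end CfsgH7.ON
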