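import Cfsg.Agent.H7.ON.PT

set_option autoImplicit false
set_option linter.unusedVariables false
set_option maxRecDepth 100000
set_option Elab.async false

namespace CfsgH7.ON

open Cfsg

theorem c2_1350 : blk f2 122760 1350 45 = true := by decide +kernel
theorem c2_1395 : blk f2 122760 1395 45 = true := by decide +kernel
theorem c2_1440 : blk f2 122760 1440 45 = true := by decide +kernel
theorem c2_1485 : blk f2 122760 1485 45 = true := by decide +kernel
theorem c2_1530 : blk f2 122760 1530 45 = true := by decide +kernel
theorem c2_1575 : blk f2 122760 1575 45 = true := by decide +kernel
theorem c2_1620 : blk f2 122760 1620 45 = true := by decide +kernel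
theorem c2_1665 : blk f2 122760 1665 45 = true := by decide +kernel
theorem c2_1710 : blk f2 122760 1710 45 = true := by decide +kernel
theorem c2_1755 : blk f2 122760 1755 45 = true := by decide +kernel
theorem c2_1800 : blk f2 122760 1800 45 = true := by decide +kernel
theorem c2_1845 : blk f2 122760 1845 45 = true := by decide +kernel
theorem c2_1890 : blk f2 122760 1890 29 = true := by decide +kernel
theorem c3_0 : blk f3 122760 0 1562 = true := by decide +kernel
theorem c3_1562 : blk f3 122760 1562 357 = true := by decide +kernel

end CfsgH7.ON
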