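import Cfsg.Agent.H7.ON.A
import Cfsg.Agent.H7.ON.PC0
import Cfsg.Agent.H7.ON.PC1
import Cfsg.Agent.H7.ON.PC2
import Cfsg.Agent.H7.ON.PC3

set_option autoImplicit false
set_option linter.unusedVariables false
set_option maxRecDepth 100000
set_option Elab.async false

namespace CfsgH7.ON

open Cfsg

theorem a1_156 : Blk f1 122760 156 := Blk.step Blk.zero c1_0 rfl
theorem a1_312 : Blk f1 122760 312 := Blk.step a1_156 c1_156 rfl
theorem a1_468 : Blk f1 122760 468 := Blk.step a1_312 c1_312 rfl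
theorem a1_624 : Blk f1 122760 624 := Blk.step a1_468 c1_468 rfl
theorem a1_780 : Blk f1 122760 780 := Blk.step a1_624 c1_624 rfl
theorem a1_936 : Blk f1 122760 936 := Blk.step a1_780 c1_780 rfl
theorem a1_1092 : Blk f1 122760 1092 := Blk.step a1_936 c1_936 rfl
theorem a1_1248 : Blk f1 122760 1248 := Blk.step a1_1092 c1_1092 rfl
theorem a1_1404 : Blk f1 122760 1404 := Blk.step a1_1248 c1_1248 rfl
theorem a1_1560 : Blk f1 122760 1560 := Blk.step a1_1404 c1_1404 rfl
theorem a1_1716 : Blk f1 122760 1716 := Blk.step a1_1560 c1_1560 rfl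
theorem a1_1872 : Blk f1 122760 1872 := Blk.step a1_1716 c1_1716 rfl
theorem a1_1919 : Blk f1 122760 1919 := Blk.step a1_1872 c1_1872 rfl
theorem all1 : ∀ p < 122760, f1 p = true := Blk.all a1_1919 (by norm_num)
theorem a2_45 : Blk f2 122760 45 := Blk.step Blk.zero c2_0 rfl
theorem a2_90 : Blk f2 122760 90 := Blk.step a2_45 c2_45 rfl
theorem a2_135 : Blk f2 122760 135 := Blk.step a2_90 c2_90 rfl
theorem a2_180 : Blk f2 122760 180 := Blk.step a2_135 c2_135 rfl
theorem a2_225 : Blk f2 122760 225 := Blk.step a2_180 c2_180 rfl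
theorem a2_270 : Blk f2 122760 270 := Blk.step a2_225 c2_225 rfl
theorem a2_315 : Blk f2 122760 315 := Blk.step a2_270 c2_270 rfl
theorem a2_360 : Blk f2 122760 360 := Blk.step a2_315 c2_315 rfl
theorem a2_405 : Blk f2 122760 405 := Blk.step a2_360 c2_360 rfl
theorem a2_450 : Blk f2 122760 450 := Blk.step a2_405 c2_405 rfl
theorem a2_495 : Blk f2 122760 495 := Blk.step a2_450 c2_450 rfl
theorem a2_540 : Blk f2 122760 540 := Blk.step a2_495 c2_495 rfl
theorem a2_585 : Blk f2 122760 585 := Blk.step a2_540 c2_540 rfl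
theorem a2_630 : Blk f2 122760 630 := Blk.step a2_585 c2_585 rfl
theorem a2_675 : Blk f2 122760 675 := Blk.step a2_630 c2_630 rfl
theorem a2_720 : Blk f2 122760 720 := Blk.step a2_675 c2_675 rfl
theorem a2_765 : Blk f2 122760 765 := Blk.step a2_720 c2_720 rfl
theorem a2_810 : Blk f2 122760 810 := Blk.step a2_765 c2_765 rfl
theorem a2_855 : Blk f2 122760 855 := Blk.step a2_810 c2_810 rfl
theorem a2_900 : Blk f2 122760 900 := Blk.step a2_855 c2_855 rfl
theorem a2_945 : Blk f2 122760 945 := Blk.step a2_900 c2_900 rfl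
theorem a2_990 : Blk f2 122760 990 := Blk.step a2_945 c2_945 rfl
theorem a2_1035 : Blk f2 122760 1035 := Blk.step a2_990 c2_990 rfl
theorem a2_1080 : Blk f2 122760 1080 := Blk.step a2_1035 c2_1035 rfl
theorem a2_1125 : Blk f2 122760 1125 := Blk.step a2_1080 c2_1080 rfl
theorem a2_1170 : Blk f2 122760 1170 := Blk.step a2_1125 c2_1125 rfl
theorem a2_1215 : Blk f2 122760 1215 := Blk.step a2_1170 c2_1170 rfl
theorem a2_1260 : Blk f2 122760 1260 := Blk.step a2_1215 c2_1215 rfl
theorem a2_1305 : Blk f2 122760 1305 := Blk.step a2_1260 c2_1260 rfl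
theorem a2_1350 : Blk f2 122760 1350 := Blk.step a2_1305 c2_1305 rfl
theorem a2_1395 : Blk f2 122760 1395 := Blk.step a2_1350 c2_1350 rfl
theorem a2_1440 : Blk f2 122760 1440 := Blk.step a2_1395 c2_1395 rfl
theorem a2_1485 : Blk f2 122760 1485 := Blk.step a2_1440 c2_1440 rfl
theorem a2_1530 : Blk f2 122760 1530 := Blk.step a2_1485 c2_1485 rfl
theorem a2_1575 : Blk f2 122760 1575 := Blk.step a2_1530 c2_1530 rfl
theorem a2_1620 : Blk f2 122760 1620 := Blk.step a2_1575 c2_1575 rfl
theorem a2_1665 : Blk f2 122760 1665 := Blk.step a2_1620 c2_1620 rfl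
theorem a2_1710 : Blk f2 122760 1710 := Blk.step a2_1665 c2_1665 rfl
theorem a2_1755 : Blk f2 122760 1755 := Blk.step a2_1710 c2_1710 rfl
theorem a2_1800 : Blk f2 122760 1800 := Blk.step a2_1755 c2_1755 rfl
theorem a2_1845 : Blk f2 122760 1845 := Blk.step a2_1800 c2_1800 rfl
theorem a2_1890 : Blk f2 122760 1890 := Blk.step a2_1845 c2_1845 rfl
theorem a2_1919 : Blk f2 122760 1919 := Blk.step a2_1890 c2_1890 rfl
theorem all2 : ∀ p < 122760, f2 p = true := Blk.all a2_1919 (by norm_num)
theorem a3_1562 : Blk f3 122760 1562 := Blk.step Blk.zero c3_0 rfl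
theorem a3_1919 : Blk f3 122760 1919 := Blk.step a3_1562 c3_1562 rfl
theorem all3 : ∀ p < 122760, f3 p = true := Blk.all a3_1919 (by norm_num)

noncomputable def P : PTab A Spor.ON.extra where
  Rw := Rw
  w := 17
  mk' := 131071
  N := 122760
  iv := 0x67543210
  lab := 0x80000000b0000000e8000000ba000000ea0
  C := 8
  EL := [[0, 1], [0, 1, 0, 1], [0, 1, 0, 1, 0, 1, 0, 1], [5, 0, 1, 6]]
  mac := mac
  rel := rel
  hi := by decide +kernel
  pair := all1
  word := all2
  code_lt := by decide +kernel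
  lt_code := by decide +kernel
  node := by decide +kernel
  mac_ok := by decide +kernel
  rel_ok := by decide +kernel
  cox := by decide +kernel
  ext := by decide +kernel

theorem invOk : P.InvOk := by decide +kernel

theorem rk : P.W.Rk HL I := WG.Rk.mk' (fun _ _ => rfl) P.top (by decide +kernel) all3


end CfsgH7.ON
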