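import Cfsg.Agent.H7.ON.E
import Cfsg.Agent.H7.ON.P
import Cfsg.Agent.H7.ONE7.E

set_option autoImplicit false
set_option linter.unusedVariables false
set_option maxRecDepth 100000
set_option Elab.async false

namespace CfsgH7.ON

open Cfsg

def L : List (ℕ × ℕ × List ℕ) := [(1, 5586, [0x40001, 0x10001, 0x1, 0x50001]), (5636, 8, [0x1, 0x10001]), (4233, 6, [0x10001, 0x250002]), (6256, 2, [0x130002]), (2, 7, [0x205102130008])]

theorem stab : P.W.clL HL = MulAction.stabilizer Spor.ON (P.W.pt 0) :=
  rk.eq_stab' rk.le_stab (A.cl_top _ (n := 7) (by decide +kernel))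
    (E7.enum _ _ _ r8 (P.S_mem invOk (by decide +kernel))).1

theorem cl6 : cl (A.gen Spor.ON.extra) 6 = MulAction.stabilizer Spor.ON (P.W.pt 0) := by
  rw [← stab, ← P.cl_eq (by decide), ← clL_range]; rfl

theorem cb : Nat.card Spor.ON = P.W.N * 3753792 ∧
    Nat.card (MulAction.stabilizer Spor.ON (P.W.pt 0)) = 3753792 ∧
      P.W.Base ⊤ (0 :: L.map Prod.fst) :=
  rk.card_base (j := 14) (cl6 ▸ b6) (by decide +kernel)

/-- the group on 122760 points -/
noncomputable def W : WX Spor.ON (Pts P.phi) := P.WX invOk [0, 1, 5636, 4233, 6256, 2] cb.2.2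

theorem card : Nat.card Spor.ON = 460815505920 := cb.1

theorem coatom : IsCoatom (MulAction.stabilizer Spor.ON (W.pt 0)) :=
  rk.coatom (by decide) (by decide +kernel)

theorem simple : IsSimpleGroup Spor.ON :=
  W.simple (p := 31) (u := (.w 0x47105250007)) (L := [(0, [((.w 0x640570146540101450101453014051014010501502002a), none), ((.w 0x64057014625101410510141050101402512501051025002c), none), ((.w 0x640570146540101450101453014051014010501502002a), none), ((.w 0x64057014625101410510141050101402512501051025002c), none)]), (5, [((.w 0x50002), some (.w 0x1))]), (2, [((.w 0x520002), some (.w 0x50001))]), (1, [((.w 0x7564106514610140510140501014534101405201501052002e), some (.w 0x250250006))]), (4, [((.w 0x140002), some (.w 0x10001))]), (3, [((.w 0x430002), some (.w 0x40001))]), (6, [((.w 0x41010410754101465301405101405010140235201501052002f), some (.w 0x212402124000a))]), (7, [((.w 0x0), some (.w 0x6660003))]), (8, [((.w 0x0), some (.w 0x10002))]), (9, [((.w 0x0), some (.w 0x1010004))]), (10, [((.w 0x0), some (.w 0x10101010008))]), (11, [((.w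 0x0), some (.w 0x50160004))])])
    rk.trans coatom cb.2.1 (by decide +kernel)

end CfsgH7.ON
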