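import Cfsg.Agent.H7.Iso2
import Cfsg.Agent.H7.ON.W
import Cfsg.Agent.H7.Mt.L37
import Cfsg.Agent.H7.Pr.L37
import Cfsg.Agent.S0249

set_option autoImplicit false
set_option linter.unusedVariables false
set_option maxRecDepth 100000
set_option Elab.async false

namespace CfsgH7.ON

open Cfsg Subgroup MulAction

variable {G Ω : Type*} [Group G] [MulAction G Ω]
def ts : List ℕ := [0x1120211211312002120020002212212120302202203002b, 0x31220022113120031213033313001a, 0x3022113330313330011, 0x20222003020220000f, 0x21331133120300222133030016, 0x21220333112130220022030016, 0x20312213133003112121203022022030021, 0x2133133121303030021122020330213110021]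
theorem ok : lall (okW L37.T.tb.n) ts = true := by decide +kernel
theorem q0 : lall (fun r => (L37.T.tb.rw ts).oneL [r]) PrL37.R0 = true := by decide +kernel
theorem q1 : lall (fun r => (L37.T.tb.rw ts).oneL [r]) PrL37.K1.T.rels = true := by decide +kernel
theorem q2 : lall (fun r => (L37.T.tb.rw ts).oneL [r]) PrL37.K2.T.rels = true := by decide +kernel
theorem q3 : lall (fun r => (L37.T.tb.rw ts).oneL [r]) PrL37.K3.T.rels = true := by decide +kernel
theorem rel1 (W : WT L37.T.tb G Ω) : ∀ r ∈ PrL37.R3, ev8 (W.gs ts) r = 1 := rels_append (rels_append (rels_append (((W.rw ts ok).orc rfl).rels q0) (((W.rw ts ok).orc rfl).rels q1)) (((W.rw ts ok).orc rfl).rels q2)) (((W.rw ts ok).orc rfl).rels q3)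
theorem mx0 (W : WT L37.T.tb G Ω) : W.ev 0x1120211211312002120020002212212120302202203002b ∈ (cl (W.gs ts) ts.length) := W.mem_xs _ 0 _ (by decide +kernel)
theorem mx1 (W : WT L37.T.tb G Ω) : W.ev 0x31220022113120031213033313001a ∈ (cl (W.gs ts) ts.length) := W.mem_xs _ 1 _ (by decide +kernel)
theorem mx2 (W : WT L37.T.tb G Ω) : W.ev 0x3022113330313330011 ∈ (cl (W.gs ts) ts.length) := W.mem_xs _ 2 _ (by decide +kernel)
theorem mx3 (W : WT L37.T.tb G Ω) : W.ev 0x20222003020220000f ∈ (cl (W.gs ts) ts.length) := W.mem_xs _ 3 _ (by decide +kernel)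
theorem mx4 (W : WT L37.T.tb G Ω) : W.ev 0x21331133120300222133030016 ∈ (cl (W.gs ts) ts.length) := W.mem_xs _ 4 _ (by decide +kernel)
theorem mx5 (W : WT L37.T.tb G Ω) : W.ev 0x21220333112130220022030016 ∈ (cl (W.gs ts) ts.length) := W.mem_xs _ 5 _ (by decide +kernel)
theorem mx6 (W : WT L37.T.tb G Ω) : W.ev 0x20312213133003112121203022022030021 ∈ (cl (W.gs ts) ts.length) := W.mem_xs _ 6 _ (by decide +kernel)
theorem mx7 (W : WT L37.T.tb G Ω) : W.ev 0x2133133121303030021122020330213110021 ∈ (cl (W.gs ts) ts.length) := W.mem_xs _ 7 _ (by decide +kernel)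
theorem mg0 (W : WT L37.T.tb G Ω) : W.ev (Tb.lt 0) ∈ (cl (W.gs ts) ts.length) := W.mem_of (ts := [0x1120211211312002120020002212212120302202203002b, 0x31220022113120031213033313001a, 0x3022113330313330011, 0x20222003020220000f, 0x21331133120300222133030016, 0x21220333112130220022030016, 0x20312213133003112121203022022030021, 0x2133133121303030021122020330213110021]) ⟨mx0 W, mx1 W, mx2 W, mx3 W, mx4 W, mx5 W, mx6 W, mx7 W⟩ 0x335631124213000434005313721556001e _ (by decide +kernel)
theorem mg1 (W : WT L37.T.tb G Ω) : W.ev (Tb.lt 1) ∈ (cl (W.gs ts) ts.length) := W.mem_of (ts := [0x1120211211312002120020002212212120302202203002b, 0x31220022113120031213033313001a, 0x3022113330313330011, 0x20222003020220000f, 0x21331133120300222133030016, 0x21220333112130220022030016, 0x20312213133003112121203022022030021, 0x2133133121303030021122020330213110021]) ⟨mx0 W, mx1 W, mx2 W, mx3 W, mx4 W, mx5 W, mx6 W, mx7 W⟩ 0x1506212242053137215560015 _ (by decide +kernel)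
theorem mg2 (W : WT L37.T.tb G Ω) : W.ev (Tb.lt 2) ∈ (cl (W.gs ts) ts.length) := W.mem_of (ts := [0x1120211211312002120020002212212120302202203002b, 0x31220022113120031213033313001a, 0x3022113330313330011, 0x20222003020220000f, 0x21331133120300222133030016, 0x21220333112130220022030016, 0x20312213133003112121203022022030021, 0x2133133121303030021122020330213110021]) ⟨mx0 W, mx1 W, mx2 W, mx3 W, mx4 W, mx5 W, mx6 W, mx7 W⟩ 0x126300053152204350011 _ (by decide +kernel)
theorem mg3 (W : WT L37.T.tb G Ω) : W.ev (Tb.lt 3) ∈ (cl (W.gs ts) ts.length) := W.mem_of (ts := [0x1120211211312002120020002212212120302202203002b, 0x31220022113120031213033313001a, 0x3022113330313330011, 0x20222003020220000f, 0x21331133120300222133030016, 0x21220333112130220022030016, 0x20312213133003112121203022022030021, 0x2133133121303030021122020330213110021]) ⟨mx0 W, mx1 W, mx2 W, mx3 W, mx4 W, mx5 W, mx6 W, mx7 W⟩ 0x53612420241142005313721556001a _ (by decide +kernel)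
theorem mg4 (W : WT L37.T.tb G Ω) : W.ev (Tb.lt 4) ∈ (cl (W.gs ts) ts.length) := W.mem_of (ts := [0x1120211211312002120020002212212120302202203002b, 0x31220022113120031213033313001a, 0x3022113330313330011, 0x20222003020220000f, 0x21331133120300222133030016, 0x21220333112130220022030016, 0x20312213133003112121203022022030021, 0x2133133121303030021122020330213110021]) ⟨mx0 W, mx1 W, mx2 W, mx3 W, mx4 W, mx5 W, mx6 W, mx7 W⟩ 0x0 _ (by decide +kernel)
theorem mg5 (W : WT L37.T.tb G Ω) : W.ev (Tb.lt 5) ∈ (cl (W.gs ts) ts.length) := W.mem_of (ts := [0x1120211211312002120020002212212120302202203002b, 0x31220022113120031213033313001a, 0x3022113330313330011, 0x20222003020220000f, 0x21331133120300222133030016, 0x21220333112130220022030016, 0x20312213133003112121203022022030021, 0x2133133121303030021122020330213110021]) ⟨mx0 W, mx1 W, mx2 W, mx3 W, mx4 W, mx5 W, mx6 W, mx7 W⟩ 0x0 _ (by decide +kernel)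
theorem mg6 (W : WT L37.T.tb G Ω) : W.ev (Tb.lt 6) ∈ (cl (W.gs ts) ts.length) := W.mem_of (ts := [0x1120211211312002120020002212212120302202203002b, 0x31220022113120031213033313001a, 0x3022113330313330011, 0x20222003020220000f, 0x21331133120300222133030016, 0x21220333112130220022030016, 0x20312213133003112121203022022030021, 0x2133133121303030021122020330213110021]) ⟨mx0 W, mx1 W, mx2 W, mx3 W, mx4 W, mx5 W, mx6 W, mx7 W⟩ 0x0 _ (by decide +kernel)
theorem mg7 (W : WT L37.T.tb G Ω) : W.ev (Tb.lt 7) ∈ (cl (W.gs ts) ts.length) := W.mem_of (ts := [0x1120211211312002120020002212212120302202203002b, 0x31220022113120031213033313001a, 0x3022113330313330011, 0x20222003020220000f, 0x21331133120300222133030016, 0x21220333112130220022030016, 0x20312213133003112121203022022030021, 0x2133133121303030021122020330213110021]) ⟨mx0 W, mx1 W, mx2 W, mx3 W, mx4 W, mx5 W, mx6 W, mx7 W⟩ 0x0 _ (by decide +kernel)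
theorem mg8 (W : WT L37.T.tb G Ω) : W.ev (Tb.lt 8) ∈ (cl (W.gs ts) ts.length) := W.mem_of (ts := [0x1120211211312002120020002212212120302202203002b, 0x31220022113120031213033313001a, 0x3022113330313330011, 0x20222003020220000f, 0x21331133120300222133030016, 0x21220333112130220022030016, 0x20312213133003112121203022022030021, 0x2133133121303030021122020330213110021]) ⟨mx0 W, mx1 W, mx2 W, mx3 W, mx4 W, mx5 W, mx6 W, mx7 W⟩ 0x0 _ (by decide +kernel)
theorem mg9 (W : WT L37.T.tb G Ω) : W.ev (Tb.lt 9) ∈ (cl (W.gs ts) ts.length) := W.mem_of (ts := [0x1120211211312002120020002212212120302202203002b, 0x31220022113120031213033313001a, 0x3022113330313330011, 0x20222003020220000f, 0x21331133120300222133030016, 0x21220333112130220022030016, 0x20312213133003112121203022022030021, 0x2133133121303030021122020330213110021]) ⟨mx0 W, mx1 W, mx2 W, mx3 W, mx4 W, mx5 W, mx6 W, mx7 W⟩ 0x0 _ (by decide +kernel)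
theorem mg10 (W : WT L37.T.tb G Ω) : W.ev (Tb.lt 10) ∈ (cl (W.gs ts) ts.length) := W.mem_of (ts := [0x1120211211312002120020002212212120302202203002b, 0x31220022113120031213033313001a, 0x3022113330313330011, 0x20222003020220000f, 0x21331133120300222133030016, 0x21220333112130220022030016, 0x20312213133003112121203022022030021, 0x2133133121303030021122020330213110021]) ⟨mx0 W, mx1 W, mx2 W, mx3 W, mx4 W, mx5 W, mx6 W, mx7 W⟩ 0x0 _ (by decide +kernel)
theorem mg11 (W : WT L37.T.tb G Ω) : W.ev (Tb.lt 11) ∈ (cl (W.gs ts) ts.length) := W.mem_of (ts := [0x1120211211312002120020002212212120302202203002b, 0x31220022113120031213033313001a, 0x3022113330313330011, 0x20222003020220000f, 0x21331133120300222133030016, 0x21220333112130220022030016, 0x20312213133003112121203022022030021, 0x2133133121303030021122020330213110021]) ⟨mx0 W, mx1 W, mx2 W, mx3 W, mx4 W, mx5 W, mx6 W, mx7 W⟩ 0x0 _ (by decide +kernel)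
theorem mg12 (W : WT L37.T.tb G Ω) : W.ev (Tb.lt 12) ∈ (cl (W.gs ts) ts.length) := W.mem_of (ts := [0x1120211211312002120020002212212120302202203002b, 0x31220022113120031213033313001a, 0x3022113330313330011, 0x20222003020220000f, 0x21331133120300222133030016, 0x21220333112130220022030016, 0x20312213133003112121203022022030021, 0x2133133121303030021122020330213110021]) ⟨mx0 W, mx1 W, mx2 W, mx3 W, mx4 W, mx5 W, mx6 W, mx7 W⟩ 0x0 _ (by decide +kernel)
theorem mg13 (W : WT L37.T.tb G Ω) : W.ev (Tb.lt 13) ∈ (cl (W.gs ts) ts.length) := W.mem_of (ts := [0x1120211211312002120020002212212120302202203002b, 0x31220022113120031213033313001a, 0x3022113330313330011, 0x20222003020220000f, 0x21331133120300222133030016, 0x21220333112130220022030016, 0x20312213133003112121203022022030021, 0x2133133121303030021122020330213110021]) ⟨mx0 W, mx1 W, mx2 W, mx3 W, mx4 W, mx5 W, mx6 W, mx7 W⟩ 0x0 _ (by decide +kernel)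
theorem mg14 (W : WT L37.T.tb G Ω) : W.ev (Tb.lt 14) ∈ (cl (W.gs ts) ts.length) := W.mem_of (ts := [0x1120211211312002120020002212212120302202203002b, 0x31220022113120031213033313001a, 0x3022113330313330011, 0x20222003020220000f, 0x21331133120300222133030016, 0x21220333112130220022030016, 0x20312213133003112121203022022030021, 0x2133133121303030021122020330213110021]) ⟨mx0 W, mx1 W, mx2 W, mx3 W, mx4 W, mx5 W, mx6 W, mx7 W⟩ 0x0 _ (by decide +kernel)
theorem mg15 (W : WT L37.T.tb G Ω) : W.ev (Tb.lt 15) ∈ (cl (W.gs ts) ts.length) := W.mem_of (ts := [0x1120211211312002120020002212212120302202203002b, 0x31220022113120031213033313001a, 0x3022113330313330011, 0x20222003020220000f, 0x21331133120300222133030016, 0x21220333112130220022030016, 0x20312213133003112121203022022030021, 0x2133133121303030021122020330213110021]) ⟨mx0 W, mx1 W, mx2 W, mx3 W, mx4 W, mx5 W, mx6 W, mx7 W⟩ 0x0 _ (by decide +kernel)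
theorem gt (W : WT L37.T.tb G Ω) (h : cl W.gen 16 = ⊤) : cl (W.gs ts) 8 = ⊤ := W.top_of h (by decide) ⟨mg0 W, mg1 W, mg2 W, mg3 W, mg4 W, mg5 W, mg6 W, mg7 W, mg8 W, mg9 W, mg10 W, mg11 W, mg12 W, mg13 W, mg14 W, mg15 W⟩
def tsH : List ℕ := [0x3401014501014530140510141051205102130024, 0x77510141014051014051014052015010520022, 0x3014010141015010500012, 0x501051014101041030012, 0x510145010145014051014025212015020020, 0x205102125204101504105410105410150020, 0x5010145014050101410531201502001c, 0x2051021350141010504105410105001c]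
theorem okH : lall (okW ON.W.tb.n) tsH = true := by decide +kernel
theorem qH0 : lall (fun r => (ON.W.tb.rw tsH).oneL [r]) PrL37.R0 = true := by decide +kernel
theorem qH1 : lall (fun r => (ON.W.tb.rw tsH).oneL [r]) PrL37.K1.T.rels = true := by decide +kernel
theorem qH2 : lall (fun r => (ON.W.tb.rw tsH).oneL [r]) PrL37.K2.T.rels = true := by decide +kernel
theorem qH3 : lall (fun r => (ON.W.tb.rw tsH).oneL [r]) PrL37.K3.T.rels = true := by decide +kernel
theorem relH (W : WT ON.W.tb G Ω) : ∀ r ∈ PrL37.R3, ev8 (W.gs tsH) r = 1 := rels_append (rels_append (rels_append (((W.rw tsH okH).orc rfl).rels qH0) (((W.rw tsH okH).orc rfl).rels qH1)) (((W.rw tsH okH).orc rfl).rels qH2)) (((W.rw tsH okH).orc rfl).rels qH3)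
theorem iso : ∃ N : Subgroup (stabilizer Spor.ON (P.W.pt 0)), N.Normal ∧ N.index = 2 ∧ Nonempty (N ≃* Matrix.ProjectiveSpecialLinearGroup (Fin 3) (ZMod 7)) := by
  have := W.finite
  have : Fact (Nat.Prime 7) := ⟨by norm_num⟩
  obtain ⟨a, _, _, V, t⟩ := L37.full (ZMod.card 7)
  have := Cfsg.Agent.S0249.result (F := ZMod 7) 3 le_rfl
  obtain ⟨e⟩ := iso_simple PrL37.p3 (relH W.wt) (rel1 V) (by norm_num) (W.wt.ne_one (e := .w (tsH.getD 0 0)) (p := 1) (by decide +kernel)) (gt V t) a
  obtain ⟨b, c, ⟨f⟩⟩ := sub_two (W.wt.gs_le (ts := tsH) (b := 0) (C := 8) (by decide +kernel)) (m := 1876896) (by norm_num) ((Nat.card_congr e.toEquiv).trans a) cb.2.1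
  exact ⟨_, b, c, ⟨f.trans e⟩⟩

end CfsgH7.ON
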